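import Cfsg.Prelude.Def_BaumannBlocks
import Cfsg.Agent.Lib.LocalEven.CStarMin.Action
import Cfsg.Agent.Lib.LocalEven.CStarMin.Contained

/-!
Translation of a decomposition of the linear group on `V` into the group: the preimages of the
components, their commutators with `V` and their actions on the sections.
-/

set_option autoImplicit false

namespace CfsgLib.LocalEven.CStarMin

open CfsgLib.LocalEven.PGV CfsgLib.LocalEven.OffenderSL2 CfsgLib.LocalEven.MinPar
open scoped MatrixGroups IsMulCommutative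

universe u

/-- A copy of `Fin n` without instances. -/
def Fld (n : ℕ) : Type := Fin n

section ToG

variable {G : Type u} [Group G] {V : Subgroup G} [IsMulCommutative ↥V]

/-- The subgroup of `V` of an additive subgroup of its additive copy. -/
def toG (U : AddSubgroup (Additive ↥V)) : Subgroup G where
  carrier := {g | ∃ u ∈ U, ((u.toMul : ↥V) : G) = g}
  one_mem' := ⟨0, zero_mem U, by simp⟩
  mul_mem' := by
    rintro _ _ ⟨a, ha, rfl⟩ ⟨b, hb, rfl⟩
    exact ⟨a + b, add_mem ha hb, by rw [toMul_add, Subgroup.coe_mul]⟩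
  inv_mem' := by
    rintro _ ⟨a, ha, rfl⟩
    exact ⟨-a, neg_mem ha, by rw [toMul_neg, InvMemClass.coe_inv]⟩

theorem toG_le (U : AddSubgroup (Additive ↥V)) : toG U ≤ V := by
  rintro _ ⟨u, -, rfl⟩
  exact u.toMul.2

theorem mem_toG {U : AddSubgroup (Additive ↥V)} {u : Additive ↥V} (hu : u ∈ U) :
    ((u.toMul : ↥V) : G) ∈ toG U := ⟨u, hu, rfl⟩

end ToG

variable {G : Type u} [Group G] {V : Subgroup G} [V.Normal] [IsMulCommutative ↥V]
variable {p : ℕ} {T' : Subgroup (Γ (Additive ↥V))} {r : ℕ} {E : Fin r → Subgroup (Γ (Additive ↥V))}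

/-- Fixed points of a subgroup of the linear group, in the group. -/
theorem fix_iff {X : Subgroup (Γ (Additive ↥V))} (hX : X ≤ (act V).range) (v : Additive ↥V) :
    v ∈ fix X ↔ (v.toMul : G) ∈ V ⊓ Subgroup.centralizer ((X.comap (act V) : Subgroup G) : Set G) := by
  rw [← mem_fix_map, Subgroup.map_comap_eq_self hX]

/-- `[V, X]` is the commutator part of the module. -/
theorem commutator_eq {X : Subgroup (Γ (Additive ↥V))} (hX : X ≤ (act V).range) :
    ⁅V, X.comap (act V)⁆ = toG (comA X) := by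
  refine le_antisymm ?_ ?_
  · rw [Subgroup.commutator_comm, Subgroup.commutator_le]
    intro g hg v hv
    refine ⟨act V g • Additive.ofMul (⟨v, hv⟩ : ↥V) - Additive.ofMul ⟨v, hv⟩,
      AddSubgroup.mem_iSup_of_mem _ (AddSubgroup.mem_iSup_of_mem hg (com_mem _ _)), ?_⟩
    rw [toMul_sub, div_eq_mul_inv, Subgroup.coe_mul, InvMemClass.coe_inv, act_apply, commutatorElement_def]
    rfl
  · let S : AddSubgroup (Additive ↥V) :=
      { carrier := {w | (w.toMul : G) ∈ ⁅V, X.comap (act V)⁆}
        zero_mem' := by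
          show ((1 : ↥V) : G) ∈ ⁅V, X.comap (act V)⁆
          exact one_mem _
        add_mem' := fun {x y} hx hy => by
          show ((x.toMul * y.toMul : ↥V) : G) ∈ ⁅V, X.comap (act V)⁆
          rw [Subgroup.coe_mul]; exact mul_mem hx hy
        neg_mem' := fun {x} hx => by
          show ((x.toMul⁻¹ : ↥V) : G) ∈ ⁅V, X.comap (act V)⁆
          rw [InvMemClass.coe_inv]; exact inv_mem hx }
    have hle : comA X ≤ S := by
      refine iSup₂_le fun g hg => ?_
      rintro _ ⟨w, rfl⟩
      obtain ⟨g₀, rfl⟩ := hX hg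
      show (((act V g₀ • w - w : Additive ↥V).toMul : ↥V) : G) ∈ ⁅V, X.comap (act V)⁆
      rw [toMul_sub, div_eq_mul_inv, Subgroup.coe_mul, InvMemClass.coe_inv, act_apply,
        Subgroup.commutator_comm]
      exact Subgroup.commutator_mem_commutator hg w.toMul.2
    rintro _ ⟨u, hu, rfl⟩
    exact hle hu

theorem span_eq (hE : Decomp p (act V).range T' r E) :
    (V ⊓ Subgroup.centralizer ((⨆ i, (E i).comap (act V) : Subgroup G) : Set G)) ⊔
      (⨆ i, ⁅V, (E i).comap (act V)⁆) = V := by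
  refine le_antisymm (sup_le inf_le_left (iSup_le fun i => by rw [commutator_eq (hE.le i)]; exact toG_le _))
    fun v hv => ?_
  obtain ⟨z, hz, y, hy, e⟩ := AddSubgroup.mem_sup.1
    (hE.span ▸ AddSubgroup.mem_top (Additive.ofMul (⟨v, hv⟩ : ↥V)))
  have e1 : v = (z.toMul : G) * (y.toMul : G) := by
    rw [← Subgroup.coe_mul, ← toMul_add, e]; rfl
  rw [e1]
  refine mul_mem (Subgroup.mem_sup_left ?_) (Subgroup.mem_sup_right ?_)
  · have h1 := (fix_iff (iSup_le hE.le) z).1 hz
    have hle : (⨆ i, (E i).comap (act V)) ≤ (⨆ i, E i).comap (act V) :=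
      iSup_le fun i => Subgroup.comap_mono (le_iSup E i)
    exact ⟨h1.1, Subgroup.centralizer_le hle h1.2⟩
  · let S : AddSubgroup (Additive ↥V) :=
      { carrier := {w | (w.toMul : G) ∈ ⨆ i, ⁅V, (E i).comap (act V)⁆}
        zero_mem' := by
          show ((1 : ↥V) : G) ∈ ⨆ i, ⁅V, (E i).comap (act V)⁆
          exact one_mem _
        add_mem' := fun {x y} hx hy => by
          show ((x.toMul * y.toMul : ↥V) : G) ∈ ⨆ i, ⁅V, (E i).comap (act V)⁆
          rw [Subgroup.coe_mul]; exact mul_mem hx hy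
        neg_mem' := fun {x} hx => by
          show ((x.toMul⁻¹ : ↥V) : G) ∈ ⨆ i, ⁅V, (E i).comap (act V)⁆
          rw [InvMemClass.coe_inv]; exact inv_mem hx }
    refine (iSup_le fun i u hu => ?_ : (⨆ i, comA (E i)) ≤ S) hy
    exact Subgroup.mem_iSup_of_mem i ((commutator_eq (hE.le i)).symm ▸ mem_toG hu)

theorem kill_eq (hE : Decomp p (act V).range T' r E) {i j : Fin r} (hij : i ≠ j) :
    ⁅⁅V, (E i).comap (act V)⁆, (E j).comap (act V)⁆ = ⊥ := by
  rw [Subgroup.commutator_eq_bot_iff_le_centralizer, commutator_eq (hE.le i)]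
  rintro _ ⟨u, hu, rfl⟩
  exact ((fix_iff (hE.le j) u).1 (hE.kill i j hij hu)).2

/-- The preimage of a component acts on the section of `V` as the component on its module. -/
theorem exists_model (hE : Decomp p (act V).range T' r E) (i : Fin r) :
    ∃ n : ℕ, 1 ≤ n ∧
      ((∃ (F : Type) (_ : Field F) (_ : Fintype F), Fintype.card F = p ^ n ∧
          (∃ _ : ((Subgroup.centralizer (V : Set G)).subgroupOf ((E i).comap (act V))).Normal,
            Nonempty (↥((E i).comap (act V)) ⧸ (Subgroup.centralizer (V : Set G)).subgroupOf ((E i).comap (act V))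
              ≃* Matrix.SpecialLinearGroup (Fin 2) F)) ∧
          Cfsg.ActsAsSL2OnSection F ⊤ ((E i).comap (act V)) ⁅V, (E i).comap (act V)⁆
            (⁅V, (E i).comap (act V)⁆ ⊓ Subgroup.centralizer (((E i).comap (act V) : Subgroup G) : Set G))) ∨
        (p = 2 ∧
          (∃ _ : ((Subgroup.centralizer (V : Set G)).subgroupOf ((E i).comap (act V))).Normal,
            Nonempty (↥((E i).comap (act V)) ⧸ (Subgroup.centralizer (V : Set G)).subgroupOf ((E i).comap (act V))
              ≃* Equiv.Perm (Fin (2 ^ n + 1)))) ∧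
          Cfsg.ActsAsOddPermModuleOnSection (2 ^ n + 1) ⊤ ((E i).comap (act V)) ⁅V, (E i).comap (act V)⁆
            (⁅V, (E i).comap (act V)⁆ ⊓ Subgroup.centralizer (((E i).comap (act V) : Subgroup G) : Set G)))) := by
  set E' : Subgroup G := (E i).comap (act V) with hE'
  let ι : ↥E' →* ↥(E i) := ((act V).comp E'.subtype).codRestrict (E i) fun x => x.2
  have hιs : Function.Surjective ι := fun y => by
    obtain ⟨g, hg⟩ := hE.le i y.2
    exact ⟨⟨g, show act V g ∈ E i from hg ▸ y.2⟩, Subtype.ext hg⟩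
  have hker' : ι.ker = (Subgroup.centralizer (V : Set G)).subgroupOf E' := by
    rw [← ker_act]
    ext x
    rw [MonoidHom.mem_ker, Subtype.ext_iff]
    rfl
  have hN : ((Subgroup.centralizer (V : Set G)).subgroupOf E').Normal := hker' ▸ ι.normal_ker
  have hquot : Nonempty (↥E' ⧸ (Subgroup.centralizer (V : Set G)).subgroupOf E' ≃* ↥(E i)) :=
    ⟨(QuotientGroup.quotientMulEquivOfEq hker'.symm).trans (QuotientGroup.quotientKerEquivOfSurjective ι hιs)⟩
  obtain ⟨qe⟩ := hquot
  have hUV : ∀ u : ↥⁅V, E'⁆, (u : G) ∈ V := fun u => toG_le _ ((commutator_eq (hE.le i)).le u.2)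
  let incl : ↥⁅V, E'⁆ → Additive ↥V := fun u => Additive.ofMul ⟨(u : G), hUV u⟩
  have hker : ∀ u : ↥⁅V, E'⁆, incl u ∈ fix (E i) ↔
      (u : G) ∈ ⁅V, E'⁆ ⊓ Subgroup.centralizer ((E' : Subgroup G) : Set G) := fun u =>
    ⟨fun h1 => ⟨u.2, ((fix_iff (hE.le i) _).1 h1).2⟩, fun h1 => (fix_iff (hE.le i) _).2 ⟨hUV u, h1.2⟩⟩
  have hnorm : E' ≤ Subgroup.normalizer ((⁅V, E'⁆ : Subgroup G) : Set G) := by
    have key : ∀ g ∈ E', ∀ v ∈ toG (comA (E i)), g * v * g⁻¹ ∈ toG (comA (E i)) := by
      intro g hg v hv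
      obtain ⟨u, hu, rfl⟩ := hv
      refine ⟨act V g • u, ?_, act_apply V g u⟩
      have hc : comA (E i) ≤ (comA (E i)).comap (DistribSMul.toAddMonoidHom _ (act V g)) := by
        refine iSup₂_le fun b hb => ?_
        rintro _ ⟨w, rfl⟩
        show act V g • (b • w - w) ∈ comA (E i)
        have e : act V g • (b • w - w) = (act V g * b * (act V g)⁻¹) • (act V g • w) - act V g • w := by
          rw [smul_sub, mul_smul, mul_smul, inv_smul_smul]
        rw [e]
        exact AddSubgroup.mem_iSup_of_mem _ (AddSubgroup.mem_iSup_of_mem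
          (mul_mem (mul_mem (show act V g ∈ E i from hg) hb) (inv_mem (show act V g ∈ E i from hg))) (com_mem _ _))
      exact hc hu
    intro g hg
    rw [commutator_eq (hE.le i)]
    refine Subgroup.mem_normalizer_iff.2 fun v => ⟨key g hg v, fun hv => ?_⟩
    have := key g⁻¹ (inv_mem hg) _ hv
    simpa [mul_assoc] using this
  have hact : ∀ (e : ↥E') (u : ↥⁅V, E'⁆), ∃ w : ↥⁅V, E'⁆,
      (w : G) = (e : G) * (u : G) * (e : G)⁻¹ ∧ incl w = ((ι e : ↥(E i)) : Γ (Additive ↥V)) • incl u := by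
    intro e u
    refine ⟨⟨_, (Subgroup.mem_normalizer_iff.1 (hnorm e.2) _).1 u.2⟩, rfl, ?_⟩
    apply Additive.toMul.injective
    apply Subtype.ext
    exact (act_apply V (e : G) (incl u)).symm
  have hdecomp : ∀ w, ∃ u : ↥⁅V, E'⁆, w - incl u ∈ fix (E i) := by
    intro w
    obtain ⟨a, ha, b, hb, rfl⟩ := AddSubgroup.mem_sup.1 (comA_sup_fix hE i ▸ AddSubgroup.mem_top w)
    refine ⟨⟨_, (commutator_eq (hE.le i)).symm.le (mem_toG ha)⟩, ?_⟩
    show a + b - a ∈ fix (E i)
    rwa [add_sub_cancel_left]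
  rcases hE.model i with ⟨F, iF, fF, n, ρ, ψ, hn, hFc, hψs, hψ0, hρ⟩ | ⟨hp2, n, ρ, ψ, hn, hψe, hψs, hψ0, hρ⟩
  · let e : Fld (Fintype.card F) ≃ F := (Fintype.equivFin F).symm
    letI : Field (Fld (Fintype.card F)) := e.field
    letI : Fintype (Fld (Fintype.card F)) := Fintype.ofEquiv F e.symm
    let rr : F ≃+* Fld (Fintype.card F) := (Equiv.ringEquiv e).symm
    let σ : SL(2, F) ≃* SL(2, Fld (Fintype.card F)) :=
      { toFun := Matrix.SpecialLinearGroup.map rr.toRingHom
        invFun := Matrix.SpecialLinearGroup.map rr.symm.toRingHom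
        left_inv := fun g => by ext a b; simp
        right_inv := fun g => by ext a b; simp
        map_mul' := map_mul _ }
    let ρ' : ↥(E i) ≃* SL(2, Fld (Fintype.card F)) := ρ.trans σ
    refine ⟨n, hn, Or.inl ⟨Fld (Fintype.card F), inferInstance, inferInstance,
      (Fintype.card_congr e).trans hFc, ⟨hN, ⟨qe.trans ρ'⟩⟩, hnorm, inf_le_left, ?_⟩⟩
    let ψ' : ↥⁅V, E'⁆ →* Multiplicative (Fin 2 → Fld (Fintype.card F)) :=
      { toFun := fun u => Multiplicative.ofAdd fun a => rr (ψ (incl u) a)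
        map_one' := by
          ext a
          show rr (ψ (incl 1) a) = 0
          rw [show incl 1 = 0 from rfl, map_zero]
          exact map_zero rr
        map_mul' := fun u v => by
          ext a
          show rr (ψ (incl (u * v)) a) = rr (ψ (incl u) a) + rr (ψ (incl v) a)
          rw [show incl (u * v) = incl u + incl v from rfl, map_add, Pi.add_apply, map_add] }
    refine ⟨ρ'.toMonoidHom.comp ι, ψ', MonoidHom.range_eq_top.2 (ρ'.surjective.comp hιs), fun x => ?_,
      fun u => ?_, fun g u => ?_⟩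
    · obtain ⟨w, hw⟩ := hψs fun a => rr.symm (Multiplicative.toAdd x a)
      obtain ⟨u, hu0⟩ := hdecomp w
      have hu := (hψ0 _).2 hu0
      rw [map_sub, sub_eq_zero] at hu
      replace hu := hu.symm.trans hw
      refine ⟨u, Multiplicative.toAdd.injective (funext fun a => ?_)⟩
      show rr (ψ (incl u) a) = _
      rw [hu, rr.apply_symm_apply]
    · rw [← hker u, ← hψ0]
      exact ⟨fun h => funext fun a => rr.injective ((congrFun (congrArg Multiplicative.toAdd h) a).trans (map_zero rr).symm),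
        fun h => Multiplicative.toAdd.injective (funext fun a => by
          show rr (ψ (incl u) a) = 0
          rw [h]; exact map_zero rr)⟩
    · obtain ⟨w, hw, hw'⟩ := hact g u
      refine ⟨w, hw, funext fun a => ?_⟩
      show rr (ψ (incl w) a) = _
      rw [hw', hρ]
      exact RingHom.map_mulVec rr.toRingHom _ _ a
  · refine ⟨n, hn, Or.inr ⟨hp2, ⟨hN, ⟨qe.trans ρ⟩⟩, hnorm, inf_le_left, ?_⟩⟩
    let ψ' : ↥⁅V, E'⁆ →* Multiplicative (Fin (2 ^ n + 1) → ZMod 2) :=
      { toFun := fun u => Multiplicative.ofAdd (ψ (incl u))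
        map_one' := by rw [show incl 1 = 0 from rfl, map_zero]; rfl
        map_mul' := fun u v => by rw [show incl (u * v) = incl u + incl v from rfl, map_add]; rfl }
    refine ⟨ρ.toMonoidHom.comp ι, ψ', MonoidHom.range_eq_top.2 (ρ.surjective.comp hιs), fun u => hψe _,
      fun v hv => ?_, fun u => ?_, fun g u => ?_⟩
    · obtain ⟨w, hw⟩ := hψs v hv
      obtain ⟨u, hu0⟩ := hdecomp w
      have hu := (hψ0 _).2 hu0
      rw [map_sub, sub_eq_zero] at hu
      replace hu := hu.symm.trans hw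
      exact ⟨u, hu⟩
    · rw [← hker u, ← hψ0]
      exact Iff.rfl
    · obtain ⟨w, hw, hw'⟩ := hact g u
      refine ⟨w, hw, fun a => ?_⟩
      show ψ (incl w) a = _
      rw [hw', hρ]
      rfl

end CfsgLib.LocalEven.CStarMin
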